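import Groth.Agent.CohTopLib.Misc

/-!
# Leray with acyclic higher direct images
-/

set_option autoImplicit false

noncomputable section

universe u

open CategoryTheory Limits TopologicalSpace Opposite

namespace Groth.Agent.LerayBase

open QCohBase CohTopLib

variable {X Y : TopCat.{u}}

/-- global cohomology vanishes in positive degrees -/
def Acyc (A : CohTop.Ab Y) : Prop := ∀ p : ℕ, Subsingleton (CohTop.HU A (p + 1) (⊤ : Opens Y))

lemma acyc_of_iso {A B : CohTop.Ab Y} (e : A ≅ B) (h : Acyc A) : Acyc B := fun p =>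
  subsingleton_of_forall_eq 0 fun (x : Abelian.Ext (free (⊤ : Opens Y)) B (p + 1)) => by
    have h' : Subsingleton (Abelian.Ext (free (⊤ : Opens Y)) A (p + 1)) := h p
    have hy : x.comp (Abelian.Ext.mk₀ e.inv) (add_zero (p + 1)) = 0 := h'.elim _ _
    have := congrArg (fun z => Abelian.Ext.comp z (Abelian.Ext.mk₀ e.hom) (add_zero (p + 1))) hy
    rw [Abelian.Ext.comp_assoc_of_second_deg_zero, Abelian.Ext.mk₀_comp_mk₀, Iso.inv_hom_id,
      Abelian.Ext.comp_mk₀_id, Abelian.Ext.zero_comp] at this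
    exact this

variable {T : ShortComplex (CohTop.Ab Y)}

lemma acyc_middle (hT : T.ShortExact) (h1 : Acyc T.X₁) (h3 : Acyc T.X₃) : Acyc T.X₂ := fun p =>
  subsingleton_of_forall_eq 0 fun (x : Abelian.Ext (free (⊤ : Opens Y)) T.X₂ (p + 1)) => by
    have h1' : Subsingleton (Abelian.Ext (free (⊤ : Opens Y)) T.X₁ (p + 1)) := h1 p
    have h3' : Subsingleton (Abelian.Ext (free (⊤ : Opens Y)) T.X₃ (p + 1)) := h3 p
    obtain ⟨y, rfl⟩ := Abelian.Ext.covariant_sequence_exact₂ _ hT x (h3'.elim _ _)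
    rw [h1'.elim y 0, Abelian.Ext.zero_comp]
    rfl

lemma acyc_right (hT : T.ShortExact) (h1 : Acyc T.X₁) (h2 : Acyc T.X₂) : Acyc T.X₃ := fun p =>
  haveI := h1 (p + 1)
  (huDelta_injective hT (p + 1) ⊤ (h2 p)).subsingleton

lemma sections_surjective (hT : T.ShortExact) (h1 : Subsingleton (CohTop.HU T.X₁ 1 (⊤ : Opens Y))) :
    Function.Surjective (T.g.hom.app (op ⊤)) :=
  fun s => (huDelta_zero_iff hT ⊤ s).1 (h1.elim _ _)

lemma sections_exact (hT : T.ShortExact) (s : T.X₂.obj.obj (op ⊤)) (hs : T.g.hom.app (op ⊤) s = 0) :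
    ∃ t, T.f.hom.app (op ⊤) t = s := by
  haveI := hT.mono_f
  obtain ⟨φ, rfl⟩ := (secHom_bijective T.X₂ ⊤).2 s
  have h : φ ≫ T.g = 0 := (secHom_bijective T.X₃ ⊤).1 (hs.trans (map_zero _).symm)
  refine ⟨secHom T.X₁ ⊤ (hT.exact.lift φ h), ?_⟩
  conv_rhs => rw [← hT.exact.lift_f φ h]
  rfl

variable (f : X ⟶ Y)

/-- the condition of the degenerate case -/
def Good (F : CohTop.Ab X) : Prop := ∀ q : ℕ, Acyc ((CohTop.Rpush f q).obj F)

variable {f}

lemma acyc_injective (I : CohTop.Ab X) [Injective I] : Acyc ((CohTop.Rpush f 0).obj I) :=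
  acyc_of_iso ((CohTop.push f).rightDerivedZeroIsoSelf.app I).symm fun p =>
    haveI := injective_push f I
    subsingleton_HU_injective _ p ⊤

section seq

variable {T : ShortComplex (CohTop.Ab X)} (hT : T.ShortExact) [Injective T.X₂]

/-- the connecting map -/
abbrev del (q : ℕ) : (CohTop.Rpush f q).obj T.X₃ ⟶ (CohTop.Rpush f (q + 1)).obj T.X₁ :=
  (RDerLES.derivedLES (CohTop.push f)).δ T hT q (q + 1) rfl

instance epi_del (q : ℕ) : Epi (del (f := f) hT q) :=
  ((RDerLES.derivedLES (CohTop.push f)).exact₁ T hT q (q + 1) rfl).epi_f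
    (((CohTop.push f).isZero_rightDerived_obj_injective_succ q T.X₂).eq_of_tgt _ _)

lemma isIso_del (q : ℕ) : IsIso (del (f := f) hT (q + 1)) := by
  haveI : Mono (del (f := f) hT (q + 1)) :=
    ((RDerLES.derivedLES (CohTop.push f)).exact₃ T hT (q + 1) (q + 1 + 1) rfl).mono_g
      (((CohTop.push f).isZero_rightDerived_obj_injective_succ q T.X₂).eq_of_src _ _)
  exact isIso_of_mono_of_epi _

lemma del_zero_comp : ((CohTop.Rpush f 0).map T.g) ≫ del hT 0 = 0 :=
  (RDerLES.derivedLES (CohTop.push f)).comp_δ T hT 0 1 rfl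

/-- the second short sequence in degree zero -/
abbrev seq₂ : ShortComplex (CohTop.Ab Y) :=
  ShortComplex.mk (kernel.ι (del (f := f) hT 0)) (del hT 0) (kernel.condition _)

lemma seq₂_shortExact : (seq₂ (f := f) hT).ShortExact where
  exact := ShortComplex.exact_of_f_is_kernel _ (kernelIsKernel (del (f := f) hT 0))
  mono_f := inferInstanceAs (Mono (kernel.ι (del (f := f) hT 0)))
  epi_g := epi_del hT 0

/-- the map onto the kernel of the connecting map -/
abbrev toKer : (CohTop.Rpush f 0).obj T.X₂ ⟶ kernel (del (f := f) hT 0) :=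
  kernel.lift _ ((CohTop.Rpush f 0).map T.g) (del_zero_comp hT)

lemma toKer_zero : (CohTop.Rpush f 0).map T.f ≫ toKer hT = 0 := by
  rw [← cancel_mono (kernel.ι (del (f := f) hT 0)), Category.assoc, kernel.lift_ι, ← Functor.map_comp,
    T.zero, Functor.map_zero, zero_comp]

/-- the first short sequence in degree zero -/
abbrev seq₁ : ShortComplex (CohTop.Ab Y) := ShortComplex.mk _ _ (toKer_zero (f := f) hT)

lemma seq₁_shortExact : (seq₁ (f := f) hT).ShortExact where
  exact := (ShortComplex.exact_iff_of_epi_of_isIso_of_mono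
      ({ τ₁ := 𝟙 _, τ₂ := 𝟙 _, τ₃ := kernel.ι (del (f := f) hT 0)
         comm₁₂ := (Category.id_comp _).trans (Category.comp_id _).symm
         comm₂₃ := by
           change 𝟙 _ ≫ (CohTop.Rpush f 0).map T.g = _
           rw [Category.id_comp]
           exact (kernel.lift_ι _ _ _).symm } :
        seq₁ (f := f) hT ⟶ ShortComplex.mk _ _ (show (CohTop.Rpush f 0).map T.f ≫ (CohTop.Rpush f 0).map T.g = 0 by
          rw [← Functor.map_comp, T.zero, Functor.map_zero]))).2
    ((RDerLES.derivedLES (CohTop.push f)).exact₂ T hT 0)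
  mono_f := by
    haveI := hT.mono_f
    haveI : Mono ((CohTop.push f).map T.f) := inferInstance
    haveI : Mono ((CohTop.Rpush f 0).map T.f ≫ (CohTop.push f).rightDerivedZeroIsoSelf.hom.app T.X₂) := by
      erw [(CohTop.push f).rightDerivedZeroIsoSelf.hom.naturality T.f]
      exact mono_comp _ _
    exact mono_of_mono _ ((CohTop.push f).rightDerivedZeroIsoSelf.hom.app T.X₂)
  epi_g := ((RDerLES.derivedLES (CohTop.push f)).exact₃ T hT 0 1 rfl).epi_kernelLift

lemma acyc_ker (h : Good f T.X₁) : Acyc (kernel (del (f := f) hT 0)) :=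
  acyc_right (seq₁_shortExact hT) (h 0) (acyc_injective T.X₂)

include hT in
lemma good_right (h : Good f T.X₁) : Good f T.X₃ := fun q => by
  cases q with
  | zero => exact acyc_middle (seq₂_shortExact hT) (acyc_ker hT h) (h 1)
  | succ q =>
    haveI := isIso_del (f := f) hT q
    exact acyc_of_iso (asIso (del (f := f) hT (q + 1))).symm (h (q + 2))

end seq

/-- degree zero -/
def secZero (f : X ⟶ Y) (F : CohTop.Ab X) :
    ((CohTop.Rpush f 0).obj F).obj.obj (op ⊤) ≃+ F.obj.obj (op ⊤) :=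
  (((sheafToPresheaf _ _).mapIso ((CohTop.push f).rightDerivedZeroIsoSelf.app F)).app
    (op ⊤)).addCommGroupIsoToAddEquiv

lemma secZero_nat {F G : CohTop.Ab X} (g : F ⟶ G) (s : ((CohTop.Rpush f 0).obj F).obj.obj (op ⊤)) :
    secZero f G (((CohTop.Rpush f 0).map g).hom.app (op ⊤) s) = g.hom.app (op ⊤) (secZero f F s) :=
  congrArg (fun φ : (CohTop.Rpush f 0).obj F ⟶ (CohTop.push f).obj G => φ.hom.app (op ⊤) s)
    ((CohTop.push f).rightDerivedZeroIsoSelf.hom.naturality g)

theorem nonempty_HU_equiv (q : ℕ) {F : CohTop.Ab X} (h : Good f F) :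
    Nonempty (CohTop.HU F q (⊤ : Opens X) ≃+ ((CohTop.Rpush f q).obj F).obj.obj (op ⊤)) := by
  induction q generalizing F with
  | zero => exact ⟨(hu0 F ⊤).trans (secZero f F).symm⟩
  | succ p ih =>
    let T := CovSystem.injSeq F
    have hT : T.ShortExact := CovSystem.injSeq_shortExact F
    haveI : Injective T.X₂ := inferInstanceAs (Injective (CovSystem.injSeq F).X₂)
    have hs : ∀ m, Function.Surjective (huDelta hT m (⊤ : Opens X)) := fun m =>
      huDelta_surjective hT m ⊤ (subsingleton_HU_injective _ m ⊤)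
    cases p with
    | succ m =>
      obtain ⟨g⟩ := ih (good_right hT h)
      haveI := isIso_del (f := f) hT m
      exact ⟨(AddEquiv.ofBijective (huDelta hT (m + 1) (⊤ : Opens X))
          ⟨huDelta_injective hT _ ⊤ (subsingleton_HU_injective _ m ⊤), hs _⟩).symm.trans
        (g.trans (((sheafToPresheaf _ _).mapIso (asIso (del (f := f) hT (m + 1)))).app
          (op ⊤)).addCommGroupIsoToAddEquiv)⟩
    | zero =>
      let ψ₁ : ((CohTop.Rpush f 0).obj T.X₃).obj.obj (op ⊤) →+ CohTop.HU F 1 ⊤ :=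
        ((huDelta hT 0 ⊤).comp (hu0 T.X₃ ⊤).symm.toAddMonoidHom).comp (secZero f T.X₃).toAddMonoidHom
      let ψ₂ : ((CohTop.Rpush f 0).obj T.X₃).obj.obj (op ⊤) →+
          ((CohTop.Rpush f 1).obj F).obj.obj (op ⊤) := ((del (f := f) hT 0).hom.app (op ⊤)).hom
      have h₁ : Function.Surjective ψ₁ :=
        ((hs 0).comp (hu0 _ _).symm.surjective).comp (secZero f T.X₃).surjective
      have h₂ : Function.Surjective ψ₂ :=
        sections_surjective (seq₂_shortExact hT) (acyc_ker hT h 0)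
      have hι : ∀ t, (kernel.ι (del (f := f) hT 0)).hom.app (op ⊤) ((toKer hT).hom.app (op ⊤) t) =
          ((CohTop.Rpush f 0).map T.g).hom.app (op ⊤) t := fun t =>
        congrArg (fun φ : (CohTop.Rpush f 0).obj T.X₂ ⟶ (CohTop.Rpush f 0).obj T.X₃ => φ.hom.app (op ⊤) t)
          (kernel.lift_ι _ _ _)
      have hker : ψ₁.ker = ψ₂.ker := by
        ext s
        rw [AddMonoidHom.mem_ker, AddMonoidHom.mem_ker]
        refine (huDelta_zero_iff hT ⊤ (secZero f T.X₃ s)).trans ⟨?_, fun hs' => ?_⟩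
        · rintro ⟨t, ht⟩
          obtain ⟨t, rfl⟩ := (secZero f T.X₂).surjective t
          obtain rfl := (secZero f T.X₃).injective ((secZero_nat T.g t).trans ht)
          exact congrArg (fun φ : (CohTop.Rpush f 0).obj T.X₂ ⟶ (CohTop.Rpush f 1).obj F => φ.hom.app (op ⊤) t)
            (del_zero_comp (f := f) hT) |>.trans rfl
        · obtain ⟨k, rfl⟩ := sections_exact (seq₂_shortExact hT) s hs'
          obtain ⟨t, rfl⟩ := sections_surjective (seq₁_shortExact hT) (h 0 0) k
          exact ⟨secZero f T.X₂ t, (secZero_nat T.g t).symm.trans (congrArg (secZero f T.X₃) (hι t).symm)⟩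
      exact ⟨((QuotientAddGroup.quotientKerEquivOfSurjective ψ₁ h₁).symm.trans
        (QuotientAddGroup.quotientAddEquivOfEq hker)).trans
        (QuotientAddGroup.quotientKerEquivOfSurjective ψ₂ h₂)⟩

theorem nonempty_H_equiv (f : X ⟶ Y) (F : CohTop.Ab X)
    (h : ∀ p q : ℕ, Subsingleton (CohTop.H ((CohTop.Rpush f q).obj F) (p + 1))) (q : ℕ) :
    Nonempty (CohTop.H F q ≃+ ((CohTop.Rpush f q).obj F).obj.obj (op ⊤)) := by
  obtain ⟨e⟩ := nonempty_HU_equiv (f := f) q (F := F)
    fun q p => (subsingleton_H_iff _ _).1 (h p q)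
  exact ⟨(hTopEquiv F q).trans e⟩

end Groth.Agent.LerayBase
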